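import Cfsg.Agent.H41.TI.Transp
import Cfsg.Agent.H155.TI.Fus
import Cfsg.Agent.H692.RealOver

/-!
# Row `PSL₃(4)` of S4819, S4820, piece P1 : vanishing in `M ≥ L` (helper761)
-/

set_option autoImplicit false

open scoped ComplexConjugate Pointwise
open Cfsg Cfsg.Agent.Characters.Core Cfsg.Agent.Characters.Clifford

namespace Cfsg.Agent.H761.TI34

open Cfsg.Agent.H155.TI (Over nz Six Frame LSit)
open Cfsg.Agent.H41.TI (exists_scal one_ne ce ce_apply over_ce)

universe u

/-- the restriction to a normal subgroup, evaluated at an element whose classes do not split -/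
theorem res_value {M : Type u} [Group M] [Finite M] (N : Subgroup M) [N.Normal] (χ : IrrCharacter M) (x : N)
    (hx : ∀ g : M, ∃ n : N, (MulAut.conjNormal g : MulAut N) x = n * x * n⁻¹) :
    ∃ η : IrrCharacter N, ∃ m : ℕ, 0 < m ∧ (χ : M → ℂ) x = m * (η : N → ℂ) x ∧
      (χ : M → ℂ) 1 = m * (η : N → ℂ) 1 ∧
      ∀ (z : N) (c : ℂ), (∀ g : M, (z : M) * g = g * z) → (∀ g, (χ : M → ℂ) (z * g) = c * (χ : M → ℂ) g) →
        ∀ t, (η : N → ℂ) (z * t) = c * (η : N → ℂ) t := by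
  classical
  have := Fintype.ofFinite M
  have := Fintype.ofFinite N
  have := finite_irr (G := N)
  have := Fintype.ofFinite (IrrCharacter N)
  have hr : IsCharacter N (fun n : N => (χ : M → ℂ) n) := isCharacter_restrict N (isIrr_isCharacter χ.2)
  have hex := classFunction_eq_sum (isCharacter_isClassFunction hr)
  have hev : ∀ t : N, (χ : M → ℂ) t = ∑ ψ : IrrCharacter N,
      classInner (fun n : N => (χ : M → ℂ) n) (ψ : N → ℂ) * (ψ : N → ℂ) t := by
    intro t
    have h1 := congrFun hex t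
    simp only [Finset.sum_apply, Pi.smul_apply, smul_eq_mul] at h1
    exact h1
  -- a constituent
  obtain ⟨η, hη⟩ : ∃ η : IrrCharacter N, classInner (fun n : N => (χ : M → ℂ) n) (η : N → ℂ) ≠ 0 := by
    by_contra hno
    push Not at hno
    have h1 := hev 1
    simp only [hno, zero_mul, Finset.sum_const_zero] at h1
    exact one_ne χ.2 h1
  have hsame : ∀ ψ : IrrCharacter N, classInner (fun n : N => (χ : M → ℂ) n) (ψ : N → ℂ) ≠ 0 →
      (ψ : N → ℂ) x = (η : N → ℂ) x ∧ (ψ : N → ℂ) 1 = (η : N → ℂ) 1 := by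
    intro ψ hψ
    obtain ⟨g, hg⟩ := exists_conj_of_constituents N χ.2 η.2 ψ.2 hη hψ
    rw [hg]
    constructor
    · obtain ⟨n, hn⟩ := hx g
      rw [Function.comp_apply, hn]
      exact isIrr_isClassFunction η.2 x n
    · rw [Function.comp_apply, map_one]
  have hnat : ∀ ψ : IrrCharacter N, ∃ k : ℕ, classInner (fun n : N => (χ : M → ℂ) n) (ψ : N → ℂ) = k :=
    fun ψ => classInner_isNat hr (isIrr_isCharacter ψ.2)
  choose k hk using hnat
  have hx1 : (χ : M → ℂ) x = ((∑ ψ, k ψ : ℕ) : ℂ) * (η : N → ℂ) x := by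
    rw [hev x, Nat.cast_sum, Finset.sum_mul]
    refine Finset.sum_congr rfl fun ψ _ => ?_
    by_cases h0 : classInner (fun n : N => (χ : M → ℂ) n) (ψ : N → ℂ) = 0
    · rw [← hk, h0, zero_mul, zero_mul]
    · rw [(hsame ψ h0).1, hk]
  have h11 : (χ : M → ℂ) 1 = ((∑ ψ, k ψ : ℕ) : ℂ) * (η : N → ℂ) 1 := by
    have := hev 1
    rw [Subgroup.coe_one] at this
    rw [this, Nat.cast_sum, Finset.sum_mul]
    refine Finset.sum_congr rfl fun ψ _ => ?_
    by_cases h0 : classInner (fun n : N => (χ : M → ℂ) n) (ψ : N → ℂ) = 0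
    · rw [← hk, h0, zero_mul, zero_mul]
    · rw [(hsame ψ h0).2, hk]
  refine ⟨η, ∑ ψ, k ψ, ?_, hx1, h11, ?_⟩
  · rcases Nat.eq_zero_or_pos (∑ ψ, k ψ) with h0 | h0
    · rw [h0, Nat.cast_zero, zero_mul] at h11
      exact absurd h11 (one_ne χ.2)
    · exact h0
  · intro z c hz hc
    obtain ⟨ω, h1, h2⟩ := exists_scal χ.2 (s := (z : M)) hz
    obtain ⟨ω', h1', h2'⟩ := exists_scal η.2 (s := z) (fun t => Subtype.ext (hz t))
    have hcω : c = ω := by
      have h3 := hc 1
      rw [h2] at h3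
      exact (mul_right_cancel₀ (one_ne χ.2) h3).symm
    have h3' : ∑ t : N, (χ : M → ℂ) t * conj ((η : N → ℂ) t) =
        (ω * conj ω') * ∑ t : N, (χ : M → ℂ) t * conj ((η : N → ℂ) t) := by
      calc ∑ t : N, (χ : M → ℂ) t * conj ((η : N → ℂ) t) =
          ∑ t : N, (χ : M → ℂ) ((z * t : N) : M) * conj ((η : N → ℂ) (z * t)) :=
            (Equiv.sum_comp (Equiv.mulLeft z) (fun t : N => (χ : M → ℂ) t * conj ((η : N → ℂ) t))).symm
        _ = (ω * conj ω') * ∑ t : N, (χ : M → ℂ) t * conj ((η : N → ℂ) t) := by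
            rw [Finset.mul_sum]
            refine Finset.sum_congr rfl fun t _ => ?_
            rw [Subgroup.coe_mul, h2, h2', map_mul]
            ring
    have h3 : classInner (fun t : N => (χ : M → ℂ) t) (η : N → ℂ) =
        (ω * conj ω') * classInner (fun t : N => (χ : M → ℂ) t) (η : N → ℂ) := by
      rw [classInner_def]
      conv_lhs => rw [h3']
      ring
    have h4 : ω * conj ω' = 1 := by
      have h5 : (ω * conj ω' - 1) * classInner (fun t : N => (χ : M → ℂ) t) (η : N → ℂ) = 0 := by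
        rw [sub_mul, one_mul, ← h3, sub_self]
      have h6 := (mul_eq_zero.1 h5).resolve_right hη
      exact sub_eq_zero.1 h6
    have h5 : ω = ω' := by
      calc ω = ω * (conj ω' * ω') := by rw [h1', mul_one]
        _ = (ω * conj ω') * ω' := by ring
        _ = ω' := by rw [h4, one_mul]
    rw [hcω, h5]
    exact h2'

variable {Γ : Type u} [Group Γ] {Z L P H : Subgroup Γ} {x d a b : Γ}

/-- the elements of order three of `L` are conjugate in `L` -/
theorem conj_three [Finite Γ] (F : Frame Z L P H x d a b) {w : Γ} (hw : w ∈ L) (ho : orderOf w = 3) :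
    ∃ l ∈ L, w = l * x * l⁻¹ := by
  have : Fact (Nat.Prime 3) := ⟨Nat.prime_three⟩
  have h1 : IsPGroup 3 (Subgroup.zpowers (⟨w, hw⟩ : L)) := by
    refine IsPGroup.of_card (n := 1) ?_
    rw [Nat.card_zpowers, pow_one, ← Subgroup.orderOf_coe]
    exact ho
  have h2 : IsPGroup 3 (P.subgroupOf L) :=
    F.pgroup.of_injective (Subgroup.subgroupOfEquivOfLe F.PL).toMonoidHom (Subgroup.subgroupOfEquivOfLe F.PL).injective
  have h3 : ¬ 3 ∣ (P.subgroupOf L).index := fun h => F.Pidx (h.trans (Subgroup.relIndex_dvd_index_of_le F.PL))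
  obtain ⟨S, hS⟩ := h1.exists_le_sylow
  obtain ⟨l, hl⟩ := MulAction.exists_smul_eq L S (h2.toSylow h3)
  have h4 : (⟨w, hw⟩ : L) ∈ (S : Subgroup L) := hS (Subgroup.mem_zpowers _)
  have h5 : l * ⟨w, hw⟩ * l⁻¹ ∈ ((h2.toSylow h3 : Sylow 3 L) : Subgroup L) := by
    rw [← hl, Sylow.coe_subgroup_smul, Subgroup.mem_pointwise_smul_iff_inv_smul_mem]
    have h6 : (MulAut.conj l)⁻¹ • (l * (⟨w, hw⟩ : L) * l⁻¹) = ⟨w, hw⟩ := by
      rw [← map_inv, MulAut.smul_def, MulAut.conj_apply]; group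
    rw [h6]
    exact h4
  have h6 : (l : Γ) * w * (l : Γ)⁻¹ ∈ P := h5
  have h7 : (l : Γ) * w * (l : Γ)⁻¹ ≠ 1 := by
    intro h
    have h8 : w = 1 := by
      have : w = (l : Γ)⁻¹ * ((l : Γ) * w * (l : Γ)⁻¹) * l := by group
      rw [this, h]; group
    rw [h8, orderOf_one] at ho
    omega
  obtain ⟨h, hh, hhL, he⟩ := F.tr _ h6 h7
  refine ⟨(l : Γ)⁻¹ * h, mul_mem (inv_mem l.2) hhL, ?_⟩
  calc w = (l : Γ)⁻¹ * ((l : Γ) * w * (l : Γ)⁻¹) * l := by group
    _ = (l : Γ)⁻¹ * (h * x * h⁻¹) * l := by rw [he]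
    _ = _ := by group

theorem fact_le [Finite Γ] (F : Frame Z L P H x d a b) (M : Subgroup Γ) : (Nat.card M).factorization 3 ≤ 2 := by
  have h1 : Nat.card Γ = 9 * P.index := by rw [← F.Pc, Subgroup.card_mul_index]
  have hi : P.index ≠ 0 := Subgroup.index_ne_zero_of_finite
  have h2 : (Nat.card Γ).factorization 3 = 2 := by
    rw [h1, Nat.factorization_mul (by norm_num) hi, Finsupp.add_apply,
      Nat.factorization_eq_zero_of_not_dvd F.Pidx, add_zero, show (9 : ℕ) = 3 ^ 2 by norm_num,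
      Nat.prime_three.factorization_pow, Finsupp.single_eq_same]
  rw [← h2]
  exact (Nat.factorization_le_iff_dvd Nat.card_pos.ne' Nat.card_pos.ne').2 (Subgroup.card_subgroup_dvd_card M) 3

/-- **P1** -/
theorem vanG [Finite Γ] (F : Frame Z L P H x d a b) (hL : ∃ _ : (Z.subgroupOf L).Normal, LSit L (Z.subgroupOf L))
    {M : Subgroup Γ}
    (hLM : L ≤ M) (lam : Z →* ℂˣ) (χ : IrrCharacter M) (ho : Over (Subgroup.inclusion (F.ZL.trans hLM)) lam (χ : M → ℂ)) :
    ((χ : M → ℂ) ⟨x, hLM (F.PL F.xP)⟩ = 0 ↔ 9 ∣ charDegree (χ : M → ℂ)) ∧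
    ((χ : M → ℂ) ⟨x, hLM (F.PL F.xP)⟩ = 0 → ∀ e ∈ H, e * x = x * e → ∀ y : M, (y : Γ) = x * e → (χ : M → ℂ) y = 0) := by
  classical
  have hzero : 9 ∣ charDegree (χ : M → ℂ) → ∀ y : M, 3 ∣ orderOf y → (χ : M → ℂ) y = 0 := by
    intro h9 y hy
    refine H692.RealOver.defect_zero_vanish χ.2 3 Nat.prime_three ?_ hy
    exact (pow_dvd_pow 3 (fact_le F M)).trans (by simpa using h9)
  have hxo : orderOf x = 3 := orderOf_eq_prime (F.P3 x F.xP) F.x1
  have key : (χ : M → ℂ) ⟨x, hLM (F.PL F.xP)⟩ = 0 → 9 ∣ charDegree (χ : M → ℂ) := by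
    intro h0
    obtain ⟨hn, hLs⟩ := hL
    have hxL : x ∈ L := F.PL F.xP
    have := F.Ln
    have hN : (L.subgroupOf M).Normal := inferInstance
    let e : L ≃* (L.subgroupOf M) := (Subgroup.subgroupOfEquivOfLe hLM).symm
    have hcoe : ∀ l : L, (((e l : L.subgroupOf M) : M) : Γ) = l := fun l => rfl
    obtain ⟨η, m, hm, h1, h2, h3⟩ := res_value (L.subgroupOf M) χ (e ⟨x, hxL⟩) (by
      intro g
      have hgx : (g : Γ) * x * (g : Γ)⁻¹ ∈ L := F.Ln.conj_mem _ hxL _
      obtain ⟨l, hl, he⟩ := conj_three F hgx (by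
        have : orderOf ((MulAut.conj (g : Γ)) x) = orderOf x := MulEquiv.orderOf_eq _ _
        rw [MulAut.conj_apply] at this
        rw [this, hxo])
      refine ⟨e ⟨l, hl⟩, ?_⟩
      apply Subtype.ext
      apply Subtype.ext
      rw [MulAut.conjNormal_apply]
      exact he)
    have hη0 : (η : L.subgroupOf M → ℂ) (e ⟨x, hxL⟩) = 0 := by
      have h4 : (χ : M → ℂ) ((e ⟨x, hxL⟩ : L.subgroupOf M) : M) = 0 := h0
      rw [h1] at h4
      exact (mul_eq_zero.1 h4).resolve_left (by exact_mod_cast hm.ne')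
    let f : (Z.subgroupOf L) ≃* Z := Subgroup.subgroupOfEquivOfLe F.ZL
    have hord : orderOf (⟨x, hxL⟩ : L) = 3 := by
      rw [← Subgroup.orderOf_coe]
      exact hxo
    have h5 := (H407.TI.goalSix L (Z.subgroupOf L) hLs (lam.comp f.toMonoidHom) ⟨x, hxL⟩ hord).2 (ce e η) (by
      intro z t
      rw [ce_apply, ce_apply, map_mul]
      refine h3 (e z) _ ?_ ?_ (e t)
      · intro g
        apply Subtype.ext
        exact F.zcomm (Subgroup.mem_subgroupOf.1 z.2) g
      · intro g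
        exact ho (f z) g)
    have h6 : 9 ∣ charDegree ((ce e η : IrrCharacter L) : L → ℂ) := h5.1 hη0
    have h7 : charDegree (χ : M → ℂ) = m * charDegree ((ce e η : IrrCharacter L) : L → ℂ) := by
      refine H692.RealOver.charDegree_eq_of ?_
      have h8 := (H692.RealOver.charDegree_spec (ce e η).2).1
      rw [ce_apply, map_one] at h8
      rw [h2, h8, Nat.cast_mul]
    rw [h7]
    exact Dvd.dvd.mul_left h6 m
  refine ⟨⟨key, fun h9 => hzero h9 _ ?_⟩, fun h0 e' he hex y hy => hzero (key h0) _ ?_⟩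
  · rw [← Subgroup.orderOf_coe, hxo]
  · rw [← Subgroup.orderOf_coe, hy]
    have h1 : Nat.Coprime (orderOf x) (orderOf e') := by
      rw [hxo]
      refine (Nat.Prime.coprime_iff_not_dvd Nat.prime_three).2 fun h => F.H3 ?_
      exact h.trans (Subgroup.orderOf_dvd_natCard H he)
    rw [(show Commute x e' from hex.symm).orderOf_mul_eq_mul_orderOf_of_coprime h1, hxo]
    exact Dvd.intro _ rfl

end Cfsg.Agent.H761.TI34
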